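import Cfsg.Agent.Lib.Helper9.TCData.S62B0.S0
import Cfsg.Agent.Lib.Helper9.TCData.S62B0.S1
import Cfsg.Agent.Lib.Helper9.TCData.S62B0.S2
import Cfsg.Agent.Lib.Helper9.TCData.S62B0.S3
import Cfsg.Agent.Lib.Helper9.TCData.S62B0.S4
import Cfsg.Agent.Lib.Helper9.TCData.S62B0.S5
import Cfsg.Agent.Lib.Helper9.TCData.S62B0.S6
import Cfsg.Agent.Lib.Helper9.TCData.S62B0.S7
import Cfsg.Agent.Lib.Helper9.TCData.S62B0.S8

set_option autoImplicit false
set_option maxRecDepth 1000000

namespace Cfsg.Agent.Helper9.TCData.S62B0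
open Cfsg.Agent.Helper9.TC2


theorem hE0 : ∀ u < 66, chkE tab 0 u = true := by
  have h0 : ∀ u < 0, (fun u => chkE tab 0 u) u = true := range_zero
  have h1 : ∀ u < 66, (fun u => chkE tab 0 u) u = true := ext_range (a := 0) (len := 66) h0 e0_0
  exact h1

theorem hE1 : ∀ u < 66, chkE tab 1 u = true := by
  have h0 : ∀ u < 0, (fun u => chkE tab 1 u) u = true := range_zero
  have h1 : ∀ u < 66, (fun u => chkE tab 1 u) u = true := ext_range (a := 0) (len := 66) h0 e1_0
  exact h1

theorem hE2 : ∀ u < 66, chkE tab 2 u = true := by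
  have h0 : ∀ u < 0, (fun u => chkE tab 2 u) u = true := range_zero
  have h1 : ∀ u < 66, (fun u => chkE tab 2 u) u = true := ext_range (a := 0) (len := 66) h0 e2_0
  exact h1

theorem hE3 : ∀ u < 66, chkE tab 3 u = true := by
  have h0 : ∀ u < 0, (fun u => chkE tab 3 u) u = true := range_zero
  have h1 : ∀ u < 66, (fun u => chkE tab 3 u) u = true := ext_range (a := 0) (len := 66) h0 e3_0
  exact h1

theorem hL : ∀ u < 66, chkL tab u = true := by
  have h0 : ∀ u < 0, (fun u => chkL tab u) u = true := range_zero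
  have h1 : ∀ u < 66, (fun u => chkL tab u) u = true := ext_range (a := 0) (len := 66) h0 l_0
  exact h1

theorem hF : ∀ u < 63, chkFin tab u = true := by
  have h0 : ∀ u < 0, (fun u => chkFin tab u) u = true := range_zero
  have h1 : ∀ u < 63, (fun u => chkFin tab u) u = true := ext_range (a := 0) (len := 63) h0 f_0
  exact h1

theorem hC : ∀ u < 66, chkCls tab u = true := by
  have h0 : ∀ u < 0, (fun u => chkCls tab u) u = true := range_zero
  have h1 : ∀ u < 66, (fun u => chkCls tab u) u = true := ext_range (a := 0) (len := 66) h0 c_0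
  exact h1

theorem hM1 : ∀ u < 63, chkM1 tab u = true := by
  have h0 : ∀ u < 0, (fun u => chkM1 tab u) u = true := range_zero
  have h1 : ∀ u < 63, (fun u => chkM1 tab u) u = true := ext_range (a := 0) (len := 63) h0 m1_0
  exact h1

theorem hM2 : ∀ u < 63, chkFix tab mwords u = true := by
  have h0 : ∀ u < 0, (fun u => chkFix tab mwords u) u = true := range_zero
  have h1 : ∀ u < 63, (fun u => chkFix tab mwords u) u = true := ext_range (a := 0) (len := 63) h0 m2_0
  exact h1

theorem hO1 : ∀ u < 63, chkO1 tab orb u = true := by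
  have h0 : ∀ u < 0, (fun u => chkO1 tab orb u) u = true := range_zero
  have h1 : ∀ u < 63, (fun u => chkO1 tab orb u) u = true := ext_range (a := 0) (len := 63) h0 o1_0
  exact h1

theorem hO2 : ∀ u < 63, chkO2 tab orb u = true := by
  have h0 : ∀ u < 0, (fun u => chkO2 tab orb u) u = true := range_zero
  have h1 : ∀ u < 63, (fun u => chkO2 tab orb u) u = true := ext_range (a := 0) (len := 63) h0 o2_0
  exact h1

theorem hOL : ∀ u < 63, Nat.blt (orb.lab u) 3 = true := by
  have h0 : ∀ u < 0, (fun u => Nat.blt (orb.lab u) 3) u = true := range_zero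
  have h1 : ∀ u < 63, (fun u => Nat.blt (orb.lab u) 3) u = true := ext_range (a := 0) (len := 63) h0 ol_0
  exact h1

theorem hSlp : ∀ u < 63, chkSlp tab slp u = true := by
  have h0 : ∀ u < 0, (fun u => chkSlp tab slp u) u = true := range_zero
  have h1 : ∀ u < 17, (fun u => chkSlp tab slp u) u = true := ext_range (a := 0) (len := 17) h0 sl_0
  have h2 : ∀ u < 34, (fun u => chkSlp tab slp u) u = true := ext_range (a := 17) (len := 17) h1 sl_1
  have h3 : ∀ u < 51, (fun u => chkSlp tab slp u) u = true := ext_range (a := 34) (len := 17) h2 sl_2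
  have h4 : ∀ u < 63, (fun u => chkSlp tab slp u) u = true := ext_range (a := 51) (len := 12) h3 sl_3
  exact h4

theorem hT0 : ∀ u < 63, chkTree tab (lidx 0) (lpar 0) (lgi 0) 0 [0, 1, 2, 3, 148, 149, 142, 134, 135, 126, 127] u = true := by
  have h0 : ∀ u < 0, (fun u => chkTree tab (lidx 0) (lpar 0) (lgi 0) 0 [0, 1, 2, 3, 148, 149, 142, 134, 135, 126, 127] u) u = true := range_zero
  have h1 : ∀ u < 63, (fun u => chkTree tab (lidx 0) (lpar 0) (lgi 0) 0 [0, 1, 2, 3, 148, 149, 142, 134, 135, 126, 127] u) u = true := ext_range (a := 0) (len := 63) h0 tr0x_0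
  exact h1

theorem hT1 : ∀ u < 63, chkTree tab (lidx 1) (lpar 1) (lgi 1) 1 [148, 149, 142, 134, 135, 126, 127] u = true := by
  have h0 : ∀ u < 0, (fun u => chkTree tab (lidx 1) (lpar 1) (lgi 1) 1 [148, 149, 142, 134, 135, 126, 127] u) u = true := range_zero
  have h1 : ∀ u < 63, (fun u => chkTree tab (lidx 1) (lpar 1) (lgi 1) 1 [148, 149, 142, 134, 135, 126, 127] u) u = true := ext_range (a := 0) (len := 63) h0 tr1x_0
  exact h1

theorem hT2 : ∀ u < 63, chkTree tab (lidx 2) (lpar 2) (lgi 2) 2 [148, 149, 142, 134, 135] u = true := by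
  have h0 : ∀ u < 0, (fun u => chkTree tab (lidx 2) (lpar 2) (lgi 2) 2 [148, 149, 142, 134, 135] u) u = true := range_zero
  have h1 : ∀ u < 63, (fun u => chkTree tab (lidx 2) (lpar 2) (lgi 2) 2 [148, 149, 142, 134, 135] u) u = true := ext_range (a := 0) (len := 63) h0 tr2x_0
  exact h1

theorem hT3 : ∀ u < 63, chkTree tab (lidx 3) (lpar 3) (lgi 3) 3 [148, 149, 142] u = true := by
  have h0 : ∀ u < 0, (fun u => chkTree tab (lidx 3) (lpar 3) (lgi 3) 3 [148, 149, 142] u) u = true := range_zero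
  have h1 : ∀ u < 63, (fun u => chkTree tab (lidx 3) (lpar 3) (lgi 3) 3 [148, 149, 142] u) u = true := ext_range (a := 0) (len := 63) h0 tr3x_0
  exact h1

theorem hT4 : ∀ u < 63, chkTree tab (lidx 4) (lpar 4) (lgi 4) 5 [148, 149] u = true := by
  have h0 : ∀ u < 0, (fun u => chkTree tab (lidx 4) (lpar 4) (lgi 4) 5 [148, 149] u) u = true := range_zero
  have h1 : ∀ u < 63, (fun u => chkTree tab (lidx 4) (lpar 4) (lgi 4) 5 [148, 149] u) u = true := ext_range (a := 0) (len := 63) h0 tr4x_0
  exact h1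

theorem hT5 : ∀ u < 63, chkTree tab (lidx 5) (lpar 5) (lgi 5) 4 [148] u = true := by
  have h0 : ∀ u < 0, (fun u => chkTree tab (lidx 5) (lpar 5) (lgi 5) 4 [148] u) u = true := range_zero
  have h1 : ∀ u < 63, (fun u => chkTree tab (lidx 5) (lpar 5) (lgi 5) 4 [148] u) u = true := ext_range (a := 0) (len := 63) h0 tr5x_0
  exact h1

theorem hX : ∀ u < 63, Nat.beq ((runT tab xw)^[7] u) u = true := by
  have h0 : ∀ u < 0, (fun u => Nat.beq ((runT tab xw)^[7] u) u) u = true := range_zero
  have h1 : ∀ u < 63, (fun u => Nat.beq ((runT tab xw)^[7] u) u) u = true := ext_range (a := 0) (len := 63) h0 x_0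
  exact h1

theorem hE : ∀ c < 4, ∀ u < 66, chkE tab c u = true := by
  intro c hc
  interval_cases c
  · exact hE0
  · exact hE1
  · exact hE2
  · exact hE3

end Cfsg.Agent.Helper9.TCData.S62B0
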